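import Mathlib.AlgebraicGeometry.Morphisms.QuasiCompact
import Mathlib.AlgebraicGeometry.Morphisms.SchemeTheoreticallyDominant
import Mathlib.RingTheory.Ideal.MinimalPrime.Localization
import Mathlib.RingTheory.Regular.RegularSequence

/-!
# Sections over an open whose complement has depth at least one or two
-/

set_option autoImplicit false
universe u

open CategoryTheory AlgebraicGeometry TopologicalSpace Opposite

namespace Groth.Agent.DepthExt

variable {X : Scheme.{u}} {V W : X.Opens}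

/-- Restriction of sections. -/
noncomputable abbrev res (h : W ≤ V) : Γ(X, V) →+* Γ(X, W) := (X.presheaf.map (homOfLE h).op).hom

theorem res_res {W' : X.Opens} (h : W ≤ V) (h' : W' ≤ W) (x : Γ(X, V)) :
    res h' (res h x) = res (h'.trans h) x := by
  rw [← CommRingCat.comp_apply, ← X.presheaf.map_comp]
  rfl

/-- A power of an element of a minimal prime over an ideal is in the ideal up to a unit at the prime. -/
theorem exists_mul_pow_mem {A : Type u} [CommRing A] {J p : Ideal A} (hp : p ∈ J.minimalPrimes) {x : A}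
    (hx : x ∈ p) : ∃ s ∉ p, ∃ n : ℕ, s * x ^ n ∈ J := by
  have hpp : p.IsPrime := hp.1.1
  by_contra h
  push Not at h
  let M : Submonoid A :=
    { carrier := {y | ∃ s ∉ p, ∃ n : ℕ, y = s * x ^ n}
      one_mem' := ⟨1, hpp.ne_top ∘ (Ideal.eq_top_iff_one p).2, 0, by simp⟩
      mul_mem' := by
        rintro _ _ ⟨s, hs, n, rfl⟩ ⟨t, ht, m, rfl⟩
        exact ⟨s * t, fun hst => (hpp.mem_or_mem hst).elim hs ht, n + m, by ring⟩ }
  obtain ⟨q, hq, hJq, hdisj⟩ := Ideal.exists_le_prime_disjoint (I := J) M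
    (Set.disjoint_left.2 fun y hy ⟨s, hs, n, e⟩ => h s hs n (e ▸ hy))
  have hqp : q ≤ p := fun y hy => by
    by_contra hyp
    exact Set.disjoint_left.1 hdisj hy ⟨y, hyp, 0, by simp⟩
  exact Set.disjoint_left.1 hdisj (hp.2 ⟨hq, hJq⟩ hqp hx)
    ⟨1, hpp.ne_top ∘ (Ideal.eq_top_iff_one p).2, 1, by simp⟩

/-- Powers of a weakly regular pair. -/
theorem mem_span_pow {A : Type u} [CommRing A] {a b : A} (ha : IsSMulRegular A a)
    (hb : ∀ y : A, a ∣ b * y → a ∣ y) : ∀ (n m : ℕ) (y : A), a ^ n ∣ b ^ m * y → a ^ n ∣ y := by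
  intro n m
  induction m with
  | zero => intro y h; simpa using h
  | succ m ihm =>
    intro y h
    suffices key : ∀ (n : ℕ) (z : A), a ^ n ∣ b * z → a ^ n ∣ z from
      ihm y (key n _ (by rwa [← mul_assoc, ← pow_succ']))
    intro n
    induction n with
    | zero => intro z _; simp
    | succ n ihn =>
      intro z h
      obtain ⟨z₁, rfl⟩ := hb z ((dvd_pow_self a n.succ_ne_zero).trans h)
      obtain ⟨c, hc⟩ := h
      have : b * z₁ = a ^ n * c := ha (by simp only [smul_eq_mul]; rw [mul_left_comm, hc, pow_succ]; ring)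
      rw [pow_succ']
      exact mul_dvd_mul_left a (ihn z₁ ⟨c, this⟩)

/-- The elementwise meaning of a weakly regular pair. -/
theorem dvd_of_isWeaklyRegular {A : Type u} [CommRing A] {a b : A}
    (h : RingTheory.Sequence.IsWeaklyRegular A [a, b]) :
    IsSMulRegular A a ∧ ∀ y : A, a ∣ b * y → a ∣ y := by
  rw [RingTheory.Sequence.isWeaklyRegular_cons_iff, RingTheory.Sequence.isWeaklyRegular_singleton_iff] at h
  refine ⟨h.1, fun y hy => ?_⟩
  obtain ⟨c, hc⟩ := hy
  have h0 : b • (Submodule.Quotient.mk y : QuotSMulTop a A) = b • 0 := by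
    rw [smul_zero, ← Submodule.Quotient.mk_smul, Submodule.Quotient.mk_eq_zero, smul_eq_mul, hc]
    exact Submodule.smul_mem_pointwise_smul c a ⊤ trivial
  obtain ⟨d, -, hd⟩ := (Submodule.mem_smul_pointwise_iff_exists _ _ _).1
    ((Submodule.Quotient.mk_eq_zero _).1 (h.2 h0))
  exact ⟨d, hd.symm⟩

section Affine

variable (hV : IsAffineOpen V) (hWV : W ≤ V)

/-- The point of a prime. -/
theorem exists_point (p : Ideal Γ(X, V)) [p.IsPrime] :
    ∃ z : V, (hV.primeIdealOf z).asIdeal = p := by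
  refine ⟨⟨hV.fromSpec ⟨p, inferInstance⟩, ?_⟩, ?_⟩
  · exact hV.range_fromSpec.subset ⟨_, rfl⟩
  · exact congrArg PrimeSpectrum.asIdeal
      (hV.fromSpec.isOpenEmbedding.injective ((hV.fromSpec_primeIdealOf _).trans rfl))

/-- The germ of an element outside the prime of a point is a unit. -/
theorem germ_eq_zero_iff (z : V) (x : Γ(X, V)) :
    X.presheaf.germ V z z.2 x = 0 ↔ ∃ s ∉ (hV.primeIdealOf z).asIdeal, s * x = 0 := by
  letI := X.presheaf.algebra_section_stalk z
  have : IsLocalization.AtPrime (X.presheaf.stalk z.1) (hV.primeIdealOf z).asIdeal := hV.isLocalization_stalk z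
  change algebraMap Γ(X, V) (X.presheaf.stalk z.1) x = 0 ↔ _
  rw [IsLocalization.map_eq_zero_iff (hV.primeIdealOf z).asIdeal.primeCompl]
  exact ⟨fun ⟨s, hs⟩ => ⟨s.1, s.2, hs⟩, fun ⟨s, hs, h⟩ => ⟨⟨s, hs⟩, h⟩⟩

include hV in
/-- Elements of the maximal ideal of the stalk come from the prime. -/
theorem exists_lift_mem (z : V) (a : X.presheaf.stalk z.1) (ha : a ∈ IsLocalRing.maximalIdeal _) :
    ∃ a' ∈ (hV.primeIdealOf z).asIdeal, ∃ u, IsUnit u ∧ X.presheaf.germ V z z.2 a' = u * a := by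
  letI := X.presheaf.algebra_section_stalk z
  have : IsLocalization.AtPrime (X.presheaf.stalk z.1) (hV.primeIdealOf z).asIdeal := hV.isLocalization_stalk z
  obtain ⟨⟨a', s⟩, h⟩ := IsLocalization.surj (hV.primeIdealOf z).asIdeal.primeCompl a
  refine ⟨a', ?_, algebraMap Γ(X, V) _ s.1, IsLocalization.map_units _ s, ?_⟩
  · rw [← IsLocalization.AtPrime.to_map_mem_maximal_iff (X.presheaf.stalk z.1) (hV.primeIdealOf z).asIdeal a', ← h]
    exact Ideal.mul_mem_right _ _ ha
  · exact h.symm.trans (mul_comm _ _)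

include hV in
/-- Germs of elements outside the prime are units. -/
theorem isUnit_germ (z : V) {s : Γ(X, V)} (hs : s ∉ (hV.primeIdealOf z).asIdeal) :
    IsUnit (X.presheaf.germ V z z.2 s) := by
  letI := X.presheaf.algebra_section_stalk z
  have : IsLocalization.AtPrime (X.presheaf.stalk z.1) (hV.primeIdealOf z).asIdeal := hV.isLocalization_stalk z
  exact IsLocalization.map_units _ (⟨s, hs⟩ : (hV.primeIdealOf z).asIdeal.primeCompl)

/-- A section over a compact open killed by an element regular at a point is killed by a unit at the point. -/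
theorem exists_kill (hW : IsCompact (W : Set X)) (z : V) (a : Γ(X, V))
    (ha : IsSMulRegular (X.presheaf.stalk z.1) (X.presheaf.germ V z z.2 a)) (e : Γ(X, W))
    (he : res hWV a * e = 0) : ∃ s ∉ (hV.primeIdealOf z).asIdeal, res hWV s * e = 0 := by
  classical
  have key : ∀ x : W, ∃ g : Γ(X, V), X.basicOpen g ≤ W ∧ (x : X) ∈ X.basicOpen g :=
    fun x => hV.exists_basicOpen_le x (hWV x.2)
  choose g hgW hxg using key
  obtain ⟨t, ht⟩ := hW.elim_finite_subcover (fun x : W => (X.basicOpen (g x) : Set X))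
    (fun x => (X.basicOpen (g x)).2) fun x hx => Set.mem_iUnion.2 ⟨⟨x, hx⟩, hxg _⟩
  have hloc : ∀ x : W, ∃ s ∉ (hV.primeIdealOf z).asIdeal, res (hgW x) (res hWV s * e) = 0 := by
    intro x
    have := hV.isLocalization_basicOpen (g x)
    obtain ⟨⟨c, q⟩, hc⟩ := IsLocalization.surj (Submonoid.powers (g x)) (res (hgW x) e)
    have hc' : res (hgW x) e * algebraMap Γ(X, V) Γ(X, X.basicOpen (g x)) q.1 = algebraMap _ _ c := hc
    have h0 : algebraMap Γ(X, V) Γ(X, X.basicOpen (g x)) (a * c) = algebraMap Γ(X, V) Γ(X, X.basicOpen (g x)) 0 := by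
      rw [map_mul, ← hc', map_zero]
      change res (X.basicOpen_le _) a * _ = 0
      rw [← res_res hWV (hgW x), ← mul_assoc, ← map_mul, he, map_zero, zero_mul]
    obtain ⟨r, hr⟩ := (IsLocalization.eq_iff_exists (Submonoid.powers (g x)) _).1 h0
    have hz : X.presheaf.germ V z z.2 (r.1 * c) = 0 := by
      refine ha ?_
      simp only [smul_eq_mul, mul_zero]
      rw [← map_mul, mul_left_comm, hr, mul_zero, map_zero]
    obtain ⟨s, hs, hsc⟩ := (germ_eq_zero_iff hV z _).1 hz
    refine ⟨s, hs, ?_⟩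
    rw [map_mul, res_res]
    refine ((IsLocalization.map_units Γ(X, X.basicOpen (g x)) (r * q)).mul_left_eq_zero).1 ?_
    change res _ s * res (hgW x) e * algebraMap Γ(X, V) _ (r.1 * q.1) = 0
    rw [map_mul, mul_assoc, mul_left_comm (res (hgW x) e), hc', ← map_mul]
    change algebraMap Γ(X, V) Γ(X, X.basicOpen (g x)) s * _ = 0
    rw [← map_mul, hsc, map_zero]
  choose s hs hse using hloc
  refine ⟨∏ x ∈ t, s x, fun h => ?_, ?_⟩
  · obtain ⟨x, -, hx⟩ := (Ideal.IsPrime.prod_mem_iff).1 h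
    exact hs x hx
  · refine X.sheaf.eq_of_locally_eq' (fun x : t => X.basicOpen (g x.1)) W (fun x => homOfLE (hgW x.1))
      (fun y hy => ?_) _ _ fun x => ?_
    · obtain ⟨x, hx, hxy⟩ := Set.mem_iUnion₂.1 (ht hy)
      exact Opens.mem_iSup.2 ⟨⟨x, hx⟩, hxy⟩
    · change res (hgW x.1) _ = res (hgW x.1) 0
      rw [← Finset.mul_prod_erase t s x.2, map_mul (res hWV), mul_comm (res hWV (s x.1)), mul_assoc,
        map_mul (res (hgW x.1)), hse, mul_zero, map_zero]

/-- Injectivity of restriction. -/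
theorem res_injective
    (hZ : ∀ z : X, z ∈ V → z ∉ W → ∃ a ∈ IsLocalRing.maximalIdeal (X.presheaf.stalk z),
      IsSMulRegular (X.presheaf.stalk z) a) (hV : IsAffineOpen V) : Function.Injective (res hWV) := by
  rw [injective_iff_map_eq_zero]
  intro x hx
  let J : Ideal Γ(X, V) := LinearMap.ker (LinearMap.toSpanSingleton Γ(X, V) Γ(X, V) x)
  have hJ : ∀ a, a ∈ J ↔ a * x = 0 := fun a => LinearMap.mem_ker
  by_contra hne
  obtain ⟨p, hp⟩ := Ideal.nonempty_minimalPrimes (I := J) fun h => hne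
    (by simpa using (hJ 1).1 ((Ideal.eq_top_iff_one J).1 h))
  have := hp.1.1
  obtain ⟨z, hz⟩ := exists_point hV p
  have hg : X.presheaf.germ V z z.2 x ≠ 0 := by
    rw [Ne, germ_eq_zero_iff hV z]
    rintro ⟨s, hs, h⟩
    exact hs (hz ▸ hp.1.2 ((hJ s).2 h))
  by_cases hzW : z.1 ∈ W
  · refine hg ?_
    rw [← X.presheaf.germ_res_apply (homOfLE hWV) z.1 hzW]
    change X.presheaf.germ W z.1 hzW (res hWV x) = 0
    rw [hx, map_zero]
  · obtain ⟨a, ha, har⟩ := hZ z.1 z.2 hzW
    obtain ⟨a', ha', u, hu, hau⟩ := exists_lift_mem hV z a ha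
    obtain ⟨s, hs, n, hn⟩ := exists_mul_pow_mem hp (hz ▸ ha')
    refine hg ?_
    have h := congrArg (X.presheaf.germ V z z.2) ((hJ _).1 hn)
    rw [map_mul, map_mul, map_pow, hau, map_zero, mul_pow, mul_assoc,
      (isUnit_germ hV z (hz ▸ hs)).mul_right_eq_zero, mul_assoc, (hu.pow n).mul_right_eq_zero] at h
    exact (har.pow n) (by simpa using h)

/-- Surjectivity of restriction. -/
theorem res_surjective (hW : IsCompact (W : Set X))
    (hZ : ∀ z : X, z ∈ V → z ∉ W → ∃ a b : X.presheaf.stalk z, a ∈ IsLocalRing.maximalIdeal (X.presheaf.stalk z) ∧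
      b ∈ IsLocalRing.maximalIdeal (X.presheaf.stalk z) ∧ RingTheory.Sequence.IsWeaklyRegular (X.presheaf.stalk z) [a, b])
    (hV : IsAffineOpen V) : Function.Surjective (res hWV) := by
  have hinj : Function.Injective (res hWV) := res_injective hWV (fun z h1 h2 => by
    obtain ⟨a, b, ha, -, h⟩ := hZ z h1 h2
    exact ⟨a, ha, (dvd_of_isWeaklyRegular h).1⟩) hV
  intro x
  let J : Ideal Γ(X, V) :=
    { carrier := {a | ∃ y, res hWV y = res hWV a * x}
      zero_mem' := ⟨0, by simp⟩
      add_mem' := by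
        rintro a b ⟨y, hy⟩ ⟨y', hy'⟩
        exact ⟨y + y', by rw [map_add, map_add, add_mul, hy, hy']⟩
      smul_mem' := by
        rintro c a ⟨y, hy⟩
        exact ⟨c * y, by rw [map_mul, smul_eq_mul, map_mul, hy, mul_assoc]⟩ }
  suffices h1 : (1 : Γ(X, V)) ∈ J by
    obtain ⟨y, hy⟩ := h1
    exact ⟨y, by simpa using hy⟩
  by_contra h1
  obtain ⟨p, hp⟩ := Ideal.nonempty_minimalPrimes (I := J) fun h => h1 ((Ideal.eq_top_iff_one J).1 h)
  have := hp.1.1
  obtain ⟨z, hz⟩ := exists_point hV p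
  by_cases hzW : z.1 ∈ W
  · obtain ⟨g, hgW, hzg⟩ := hV.exists_basicOpen_le ⟨z.1, hzW⟩ z.2
    have hgp : g ∉ p := fun hg => by
      have hu := (X.mem_basicOpen g z.1 z.2).1 hzg
      letI := X.presheaf.algebra_section_stalk z
      have : IsLocalization.AtPrime (X.presheaf.stalk z.1) (hV.primeIdealOf z).asIdeal := hV.isLocalization_stalk z
      exact (IsLocalRing.mem_maximalIdeal _).1 ((IsLocalization.AtPrime.to_map_mem_maximal_iff
        (X.presheaf.stalk z.1) (hV.primeIdealOf z).asIdeal g).2 (hz ▸ hg)) hu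
    have := hV.isLocalization_basicOpen g
    obtain ⟨⟨c, q⟩, hc⟩ := IsLocalization.surj (Submonoid.powers g) (res hgW x)
    obtain ⟨n, hn⟩ := q.2
    have hbo : X.basicOpen (res hWV g) ≤ X.basicOpen g := by
      rw [Scheme.basicOpen_res]
      exact inf_le_right
    obtain ⟨m, hm⟩ := exists_pow_mul_eq_zero_of_res_basicOpen_eq_zero_of_isCompact X hW
      (res hWV (g ^ n) * x - res hWV c) (res hWV g) (by
        change res (X.basicOpen_le _) (res hWV (g ^ n) * x - res hWV c) = 0
        have e : res (X.basicOpen_le (res hWV g)) = (res hbo).comp (res hgW) := RingHom.ext fun w => (res_res hgW hbo w).symm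
        rw [e, RingHom.comp_apply]
        refine (congrArg (res hbo) ?_).trans (map_zero _)
        rw [map_sub, map_mul, res_res, res_res, sub_eq_zero, mul_comm]
        have hc' : res hgW x * algebraMap Γ(X, V) Γ(X, X.basicOpen g) q.1 = algebraMap _ _ c := hc
        rw [show q.1 = g ^ n from hn.symm] at hc'
        exact hc')
    refine hgp (hp.1.1.mem_of_pow_mem (m + n) (hp.1.2 ⟨g ^ m * c, ?_⟩))
    rw [map_mul, map_pow, pow_add, map_mul, map_pow, mul_assoc, eq_comm, ← sub_eq_zero, ← mul_sub]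
    exact hm
  · obtain ⟨a, b, ha, hb, hab⟩ := hZ z.1 z.2 hzW
    obtain ⟨har, hdvd⟩ := dvd_of_isWeaklyRegular hab
    obtain ⟨a', ha', u, hu, hau⟩ := exists_lift_mem hV z a ha
    obtain ⟨b', hb', v, hv, hbv⟩ := exists_lift_mem hV z b hb
    obtain ⟨s, hs, n, hn⟩ := exists_mul_pow_mem hp (hz ▸ ha')
    obtain ⟨t, ht, m, hm⟩ := exists_mul_pow_mem hp (hz ▸ hb')
    obtain ⟨y, hy⟩ := hn
    obtain ⟨y', hy'⟩ := hm
    let G := X.presheaf.germ V z z.2
    have hUa : IsUnit (G s * u ^ n) := (isUnit_germ hV z (hz ▸ hs)).mul (hu.pow n)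
    have hUb : IsUnit (G t * v ^ m) := (isUnit_germ hV z (hz ▸ ht)).mul (hv.pow m)
    have hGa : G (s * a' ^ n) = G s * u ^ n * a ^ n := by
      rw [map_mul, map_pow, show G a' = u * a from hau, mul_pow, mul_assoc]
    have hGb : G (t * b' ^ m) = G t * v ^ m * b ^ m := by
      rw [map_mul, map_pow, show G b' = v * b from hbv, mul_pow, mul_assoc]
    have hyy : t * b' ^ m * y = s * a' ^ n * y' := hinj (by
      rw [map_mul, map_mul _ (s * a' ^ n) y', hy, hy', mul_left_comm])
    have hd : G (s * a' ^ n) ∣ G y := by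
      rw [hGa, hUa.mul_left_dvd]
      refine mem_span_pow har hdvd n m _ ?_
      rw [← hUa.mul_left_dvd (u := G s * u ^ n), ← hGa]
      refine (hUb.dvd_mul_left (u := G t * v ^ m)).1 ?_
      rw [← mul_assoc, ← hGb, ← map_mul, hyy, map_mul _ (s * a' ^ n)]
      exact dvd_mul_right _ _
    obtain ⟨w, hw⟩ := hd
    letI := X.presheaf.algebra_section_stalk z
    have : IsLocalization.AtPrime (X.presheaf.stalk z.1) (hV.primeIdealOf z).asIdeal := hV.isLocalization_stalk z
    obtain ⟨⟨w', q⟩, hq⟩ := IsLocalization.surj (hV.primeIdealOf z).asIdeal.primeCompl w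
    have h0 : G (q.1 * y - s * a' ^ n * w') = 0 := by
      rw [map_sub, map_mul, map_mul _ (s * a' ^ n), hw]
      have hq' : w * G q.1 = G w' := hq
      rw [← hq']
      ring
    obtain ⟨r, hr, hr0⟩ := (germ_eq_zero_iff hV z _).1 h0
    have hreg : IsSMulRegular (X.presheaf.stalk z.1) (G (s * a' ^ n)) := by
      rw [hGa]
      exact hUa.isSMulRegular _ |>.mul (har.pow n)
    obtain ⟨r', hr', hr0'⟩ := exists_kill hV hWV hW z (s * a' ^ n) hreg
      (res hWV (r * q.1) * x - res hWV (r * w')) (by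
        rw [mul_sub, mul_left_comm, ← hy, ← map_mul, ← map_mul, ← map_sub]
        refine (congrArg _ ?_).trans (map_zero _)
        linear_combination hr0)
    rw [hz] at hr hr'
    have hqp : q.1 ∉ p := hz ▸ q.2
    refine absurd (hp.1.2 (show r' * (r * q.1) ∈ J from ⟨r' * (r * w'), ?_⟩)) ?_
    · rw [map_mul, map_mul _ r', mul_assoc, eq_comm, ← sub_eq_zero, ← mul_sub]
      exact hr0'
    · exact fun h => ((hp.1.1.mem_or_mem h).elim hr' fun h => (hp.1.1.mem_or_mem h).elim hr hqp)

end Affine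

end Groth.Agent.DepthExt
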