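import Groth.Agent.DepthExt.Basic
import Groth.Agent.NeronLib.Dense
import Mathlib.AlgebraicGeometry.Morphisms.Affine

/-!
# Morphisms over an open whose complement has depth at least one or two
-/

set_option autoImplicit false
set_option backward.isDefEq.respectTransparency false
universe u

open CategoryTheory CategoryTheory.Limits AlgebraicGeometry TopologicalSpace Opposite

namespace Groth.Agent.DepthExt

variable {X : Scheme.{u}} (U : X.Opens) [QuasiCompact U.ι]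

/-- An open with regular elements at the complement is schematically dense. -/
theorem isSchemeTheoreticallyDominant
    (hZ : ∀ z : X, z ∉ U → ∃ a ∈ IsLocalRing.maximalIdeal (X.presheaf.stalk z),
      IsSMulRegular (X.presheaf.stalk z) a) : IsSchemeTheoreticallyDominant U.ι := by
  constructor
  ext V : 2
  rw [Scheme.Hom.ker_apply, Scheme.IdealSheafData.ideal_bot, Pi.bot_apply, ← RingHom.injective_iff_ker_eq_bot]
  rw [Scheme.Opens.ι_app]
  refine res_injective _ (fun z hzV hzW => hZ z fun hzU => hzW ⟨⟨z, hzU⟩, hzV, rfl⟩) V.2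

/-- An open with regular pairs at the complement has the same functions on affine opens. -/
theorem app_bijective
    (hZ : ∀ z : X, z ∉ U → ∃ a b : X.presheaf.stalk z, a ∈ IsLocalRing.maximalIdeal (X.presheaf.stalk z) ∧
      b ∈ IsLocalRing.maximalIdeal (X.presheaf.stalk z) ∧ RingTheory.Sequence.IsWeaklyRegular (X.presheaf.stalk z) [a, b])
    {V : X.Opens} (hV : IsAffineOpen V) : Function.Bijective (U.ι.app V) := by
  have hW : IsCompact ((U.ι ''ᵁ U.ι ⁻¹ᵁ V : X.Opens) : Set X) :=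
    (U.ι.isCompact_preimage hV.isCompact).image U.ι.continuous
  rw [Scheme.Opens.ι_app]
  refine ⟨res_injective _ (fun z hzV hzW => ?_) hV, res_surjective _ hW
    (fun z hzV hzW => hZ z fun hzU => hzW ⟨⟨z, hzU⟩, hzV, rfl⟩) hV⟩
  obtain ⟨a, b, ha, -, h⟩ := hZ z fun hzU => hzW ⟨⟨z, hzU⟩, hzV, rfl⟩
  exact ⟨a, ha, (dvd_of_isWeaklyRegular h).1⟩

/-- A map with bijective global functions to an affine scheme extends maps to affine schemes. -/
theorem existsUnique_extend {A B Y : Scheme.{u}} [IsAffine B] [IsAffine Y] (j : A ⟶ B)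
    (hj : IsIso j.appTop) (t : A ⟶ Y) : ∃! s : B ⟶ Y, j ≫ s = t := by
  refine ⟨B.isoSpec.hom ≫ Spec.map (t.appTop ≫ inv j.appTop) ≫ Y.isoSpec.inv, ?_, fun s hs => ?_⟩
  · refine (cancel_mono Y.isoSpec.hom).1 ?_
    simp only [Category.assoc, Iso.inv_hom_id, Category.comp_id]
    change j ≫ B.toSpecΓ ≫ _ = t ≫ Y.toSpecΓ
    rw [Scheme.toSpecΓ_naturality_assoc, Scheme.toSpecΓ_naturality, ← Spec.map_comp, Category.assoc,
      IsIso.inv_hom_id, Category.comp_id]
  · refine (cancel_mono Y.isoSpec.hom).1 ?_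
    simp only [Category.assoc, Iso.inv_hom_id, Category.comp_id]
    change s ≫ Y.toSpecΓ = B.toSpecΓ ≫ _
    rw [Scheme.toSpecΓ_naturality, ← hs, Scheme.Hom.comp_appTop, Category.assoc, IsIso.hom_inv_id, Category.comp_id]

/-- Sections over an open with regular pairs at the complement extend uniquely. -/
theorem existsUnique_section
    (hZ : ∀ z : X, z ∉ U → ∃ a b : X.presheaf.stalk z, a ∈ IsLocalRing.maximalIdeal (X.presheaf.stalk z) ∧
      b ∈ IsLocalRing.maximalIdeal (X.presheaf.stalk z) ∧ RingTheory.Sequence.IsWeaklyRegular (X.presheaf.stalk z) [a, b])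
    {Y : Scheme.{u}} (f : Y ⟶ X) [IsAffineHom f] (t : (U : Scheme.{u}) ⟶ Y) (ht : t ≫ f = U.ι) :
    ∃! s : X ⟶ Y, s ≫ f = 𝟙 X ∧ U.ι ≫ s = t := by
  have hdom : IsSchemeTheoreticallyDominant U.ι := isSchemeTheoreticallyDominant U fun z hz => by
    obtain ⟨a, b, ha, -, h⟩ := hZ z hz
    exact ⟨a, ha, (dvd_of_isWeaklyRegular h).1⟩
  have hloc : ∀ V : X.affineOpens, ∃ s : (V.1 : Scheme.{u}) ⟶ Y, s ≫ f = V.1.ι ∧
      (U.ι ∣_ V.1) ≫ s = (U.ι ⁻¹ᵁ V.1).ι ≫ t := fun V => by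
    have : IsAffine (V.1 : Scheme.{u}) := V.2
    have : IsAffine (f ⁻¹ᵁ V.1 : Scheme.{u}) := V.2.preimage f
    have hiso : IsIso (U.ι ∣_ V.1).appTop := by
      rw [morphismRestrict_appTop]
      have : IsIso (U.ι.app (V.1.ι ''ᵁ ⊤)) := (ConcreteCategory.isIso_iff_bijective _).2
        (app_bijective U hZ (by rw [Scheme.Opens.ι_image_top]; exact V.2))
      infer_instance
    have hrange : Set.range ((U.ι ⁻¹ᵁ V.1).ι ≫ t) ⊆ Set.range (f ⁻¹ᵁ V.1).ι := by
      rintro _ ⟨x, rfl⟩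
      rw [Scheme.Opens.range_ι]
      change f (t x.1) ∈ V.1
      rw [← Scheme.Hom.comp_apply, ht]
      exact x.2
    let t' := IsOpenImmersion.lift (f ⁻¹ᵁ V.1).ι ((U.ι ⁻¹ᵁ V.1).ι ≫ t) hrange
    have ht' : t' ≫ (f ⁻¹ᵁ V.1).ι = (U.ι ⁻¹ᵁ V.1).ι ≫ t := IsOpenImmersion.lift_fac _ _ _
    obtain ⟨s, hs, -⟩ := existsUnique_extend (U.ι ∣_ V.1) hiso t'
    have hsf : s ≫ (f ∣_ V.1) = 𝟙 _ := by
      obtain ⟨r, -, hr⟩ := existsUnique_extend (U.ι ∣_ V.1) hiso (U.ι ∣_ V.1)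
      refine (hr _ ?_).trans (hr _ (Category.comp_id _)).symm
      dsimp only
      rw [← cancel_mono V.1.ι, ← Category.assoc, hs, Category.assoc, morphismRestrict_ι, ← Category.assoc, ht',
        Category.assoc, ht, morphismRestrict_ι]
    refine ⟨s ≫ (f ⁻¹ᵁ V.1).ι, ?_, ?_⟩
    · rw [Category.assoc, ← morphismRestrict_ι, ← Category.assoc, hsf, Category.id_comp]
    · rw [← Category.assoc, hs, ht']
  choose s hsf hst using hloc
  let 𝒰 := X.openCoverOfIsOpenCover (fun V : X.affineOpens => V.1) (iSup_affineOpens_eq_top X)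
  let g : X ⟶ Y := 𝒰.glueMorphisms s fun V V' => by
    let p : pullback (𝒰.f V) (𝒰.f V') ⟶ X := pullback.fst _ _ ≫ 𝒰.f V
    have : IsOpenImmersion p := inferInstance
    refine NeronLib.Dense.ext_of_schDominant f ?_ (pullback.snd U.ι p) ?_
    · rw [Category.assoc, Category.assoc]
      change _ ≫ s V ≫ f = _ ≫ s V' ≫ f
      rw [hsf V, hsf V']
      exact pullback.condition
    · have key : ∀ (W : X.affineOpens) (m : pullback U.ι p ⟶ (W.1 : Scheme.{u}))
          (_ : m ≫ W.1.ι = pullback.fst U.ι p ≫ U.ι), m ≫ s W = pullback.fst U.ι p ≫ t := by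
        intro W m hm
        have hl : ∃ l : pullback U.ι p ⟶ (U.ι ⁻¹ᵁ W.1 : Scheme.{u}),
            l ≫ (U.ι ∣_ W.1) = m ∧ l ≫ (U.ι ⁻¹ᵁ W.1).ι = pullback.fst U.ι p :=
          ⟨(isPullback_morphismRestrict U.ι W.1).lift m (pullback.fst _ _) hm, IsPullback.lift_fst _ _ _ _,
            IsPullback.lift_snd _ _ _ _⟩
        obtain ⟨l, hl1, hl2⟩ := hl
        rw [← hl1, Category.assoc, hst, ← Category.assoc, hl2]
      rw [← Category.assoc, ← Category.assoc]
      refine (key V _ ?_).trans (key V' _ ?_).symm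
      · rw [Category.assoc, pullback.condition]
        rfl
      · rw [Category.assoc, pullback.condition]
        simp only [p]
        exact congrArg _ (pullback.condition (f := 𝒰.f V) (g := 𝒰.f V')).symm
  have hgf : g ≫ f = 𝟙 X := 𝒰.hom_ext _ _ fun V => by
    rw [← Category.assoc, 𝒰.ι_glueMorphisms, Category.comp_id]
    exact hsf V
  refine ⟨g, ⟨hgf, ?_⟩, fun g' hg' => ?_⟩
  · let 𝒱 := (U : Scheme.{u}).openCoverOfIsOpenCover (fun V : X.affineOpens => U.ι ⁻¹ᵁ V.1)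
      ((IsOpenCover.comap (iSup_affineOpens_eq_top X) U.ι.base.hom))
    refine 𝒱.hom_ext _ _ fun V => ?_
    change (U.ι ⁻¹ᵁ V.1).ι ≫ U.ι ≫ g = (U.ι ⁻¹ᵁ V.1).ι ≫ t
    rw [← hst V, ← morphismRestrict_ι_assoc]
    exact congrArg _ (𝒰.ι_glueMorphisms _ _ V)
  · refine NeronLib.Dense.ext_of_schDominant f (hg'.1.trans hgf.symm) U.ι (hg'.2.trans ?_)
    let 𝒱 := (U : Scheme.{u}).openCoverOfIsOpenCover (fun V : X.affineOpens => U.ι ⁻¹ᵁ V.1)
      ((IsOpenCover.comap (iSup_affineOpens_eq_top X) U.ι.base.hom))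
    refine 𝒱.hom_ext _ _ fun V => ?_
    change (U.ι ⁻¹ᵁ V.1).ι ≫ t = (U.ι ⁻¹ᵁ V.1).ι ≫ U.ι ≫ g
    rw [← hst V, ← morphismRestrict_ι_assoc]
    exact (congrArg _ (𝒰.ι_glueMorphisms _ _ V)).symm

end Groth.Agent.DepthExt
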